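import Groth.Agent.Lib.SubtrLim.Cover
import Groth.Agent.Lib.SubtrLim.Criterion
import Groth.Agent.S14785
import Groth.Agent.S14769
import Groth.Agent.S0591
import Groth.Agent.S9186

/-! # Descending standard h coverings along a limit of affine schemes -/

set_option backward.isDefEq.respectTransparency false

universe w u

open CategoryTheory CategoryTheory.Limits AlgebraicGeometry TopologicalSpace GrothLib.HTop

namespace GrothLib.HDesc4

variable {I : Type u} [SmallCategory I] [IsCofiltered I] (D : I ⥤ Scheme.{u}) [∀ i, IsAffine (D.obj i)]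
  (c : Cone D) (hc : IsLimit c) [IsAffine c.pt]

include hc in
theorem exists_descend_affine {X : Scheme.{u}} [IsAffine X] (v : X ⟶ c.pt) [LocallyOfFinitePresentation v] :
    ∃ (i : I) (W : Scheme.{u}) (f : W ⟶ D.obj i) (g : X ⟶ W), IsAffine W ∧
      LocallyOfFinitePresentation f ∧ IsPullback g v f (c.π.app i) := by
  haveI : ∀ (i j : I) (a : i ⟶ j), IsAffineHom (D.map a) := fun i j a => inferInstance
  obtain ⟨i, Xi, fi, g, h1, h2, h3, hp⟩ := Groth.Agent.S0591.result D c hc X v
  haveI := h1; haveI := h2; haveI := h3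
  haveI : CompactSpace Xi := QuasiCompact.compactSpace_of_compactSpace fi
  haveI : QuasiSeparatedSpace Xi := quasiSeparatedSpace_of_quasiSeparated fi
  obtain ⟨k, φ, Xk, Yk, fk, gk, pY, pX, hY, hX, hfk⟩ := Groth.Agent.S9186.result D c hc i fi (𝟙 _)
    v (𝟙 _) (c.π.app i) g (IsPullback.of_vert_isIso (by simp)) hp
  haveI : IsIso gk := hY.isIso_snd_of_isIso
  haveI : IsAffineHom fk := hfk
  haveI : IsAffine Yk := .of_isIso gk
  haveI : IsAffine Xk := isAffine_of_isAffineHom fk
  have e : pY = gk ≫ D.map φ := by simpa using hY.w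
  have hk : IsPullback pX (fk ≫ gk) fi (D.map φ) := by
    have h1 : IsPullback (pX : Xk ⟶ Xi) fk fi pY := hX
    refine h1.of_iso (Iso.refl _) (Iso.refl _) (asIso gk) (Iso.refl _) ?_ ?_ ?_ ?_ <;> simp [e]
  haveI : LocallyOfFinitePresentation (fk ≫ gk) := MorphismProperty.of_isPullback hk h1
  have hw : c.π.app k ≫ D.map φ = c.π.app i := c.w φ
  refine ⟨k, Xk, fk ≫ gk, hk.lift g (v ≫ c.π.app k) (by rw [Category.assoc, hw, hp.w]), inferInstance,
    inferInstance, ?_⟩
  refine IsPullback.of_right ?_ (hk.lift_snd _ _ _) hk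
  rw [hk.lift_fst, hw]
  exact hp

theorem isExtVal_lift {V : CommRingCat.{u}} [IsDomain V] [ValuationRing V] (W : Type u) [CommRing W]
    [IsDomain W] [ValuationRing W] (b : Spec (CommRingCat.of W) ⟶ Spec V) [Surjective b] :
    HTop.IsExtVal V (CommRingCat.of W) (Spec.preimage b) := by
  let φ := (Spec.preimage b).hom
  have hb : ∀ p : PrimeSpectrum V, ∃ q : PrimeSpectrum W, PrimeSpectrum.comap φ q = p := fun p => by
    obtain ⟨q, hq⟩ := b.surjective p
    refine ⟨q, ?_⟩
    rw [← Spec.map_preimage b] at hq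
    exact hq
  refine ⟨(injective_iff_map_eq_zero φ).2 fun x hx => ?_, ⟨fun x hx => ?_⟩⟩
  · obtain ⟨q, hq⟩ := hb ⟨⊥, Ideal.isPrime_bot⟩
    have : x ∈ (PrimeSpectrum.comap φ q).asIdeal := by
      show φ x ∈ q.asIdeal
      rw [hx]; exact zero_mem _
    rw [hq] at this
    exact this
  · by_contra hu
    obtain ⟨q, hq⟩ := hb (IsLocalRing.closedPoint V)
    have : x ∈ (PrimeSpectrum.comap φ q).asIdeal := by rw [hq]; exact hu
    exact q.2.ne_top (Ideal.eq_top_of_isUnit_mem _ this hx)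

include hc in
theorem exists_descend_standardH (V : PreZeroHypercover.{w} c.pt) (hV : HTop.IsStandardH V) :
    ∃ (i : I) (W : PreZeroHypercover.{w} (D.obj i)), HTop.IsStandardH W ∧
      ∃ (σ : V.I₀ ≃ W.I₀) (e : ∀ j, V.X j ≅ pullback (c.π.app i) (W.f (σ j))),
        ∀ j, (e j).hom ≫ pullback.fst (c.π.app i) (W.f (σ j)) = V.f j := by
  classical
  haveI : ∀ (i j : I) (a : i ⟶ j), IsAffineHom (D.map a) := fun i j a => inferInstance
  haveI := hV.finite_index
  haveI := hV.isAffine_obj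
  haveI := hV.finitePresentation
  choose s W₀ f₀ g₀ hA hfp hp using fun j => exists_descend_affine D c hc (V.f j)
  haveI := hA
  haveI := hfp
  haveI := Fintype.ofFinite V.I₀
  obtain ⟨k, hk⟩ := IsCofiltered.inf_objs_exists (Finset.image s Finset.univ)
  let a : ∀ j, k ⟶ s j := fun j => (hk (X := s j) (Finset.mem_image.2 ⟨j, Finset.mem_univ _, rfl⟩)).some
  obtain ⟨n, ⟨σ⟩⟩ := Finite.exists_equiv_fin V.I₀
  let K := ULift.{u} (Fin n)
  let idx : K → V.I₀ := fun m => σ.symm m.down
  let Y : K → Scheme.{u} := fun m => pullback (f₀ (idx m)) (D.map (a (idx m)))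
  let y : ∀ m, Y m ⟶ D.obj k := fun m => pullback.snd _ _
  let F : ∐ Y ⟶ D.obj k := Sigma.desc y
  haveI : ∀ m, IsAffine (Y m) := fun m => inferInstance
  haveI : ∀ m, LocallyOfFinitePresentation (y m) := fun m =>
    inferInstanceAs (LocallyOfFinitePresentation (pullback.snd _ _))
  haveI : LocallyOfFinitePresentation F :=
    IsZariskiLocalAtSource.sigmaDesc (P := @LocallyOfFinitePresentation) fun m => inferInstance
  let X := pullback (c.π.app k) F
  let f : X ⟶ c.pt := pullback.fst _ _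
  have hsub : Subtr.UnivSSubtrusive f := by
    rw [Groth.Agent.S14769.result]
    intro R _ _ _ b
    obtain ⟨R', i1, i2, φ, hφ, j, l, hl⟩ :=
      GrothLib.HTop.hasValLift_of_isVCover hV.isVCover (CommRingCat.of R) b
    haveI := hφ.2
    let m : K := ⟨σ j⟩
    have hm : idx m = j := σ.symm_apply_apply j
    obtain ⟨p, hp'⟩ : ∃ p : V.X j ⟶ Y m, p ≫ y m = V.f j ≫ c.π.app k := by
      have key : ∀ j', j' = j → ∃ p : V.X j ⟶ pullback (f₀ j') (D.map (a j')),
          p ≫ pullback.snd _ _ = V.f j ≫ c.π.app k := by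
        rintro _ rfl
        exact ⟨pullback.lift (g₀ _) (V.f _ ≫ c.π.app k)
          (by rw [Category.assoc, c.w]; exact (hp _).w), pullback.lift_snd _ _ _⟩
      exact key _ hm
    refine ⟨R', inferInstance, i1, i2, pullback.lift (l ≫ V.f j) (l ≫ p ≫ Sigma.ι Y m) ?_, Spec.map φ,
      GrothLib.SubtrLim.surjective_of_gen_closed _ (GrothLib.HTop.specMap_gen hφ.1)
        (GrothLib.HTop.specMap_closed φ), (pullback.lift_fst _ _ _).trans hl⟩
    simp only [Category.assoc, F, Sigma.ι_desc, hp']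
  obtain ⟨i, ψ, Xi, Yi, fi, gi, pY, pX, hY, hX, hfi⟩ := Groth.Agent.S14785.result D c hc k F (𝟙 _)
    f (𝟙 _) (c.π.app k) (pullback.snd _ _) (IsPullback.of_vert_isIso (by simp))
    (IsPullback.of_hasPullback _ _).flip hsub
  haveI : IsIso gi := hY.isIso_snd_of_isIso
  let b : ∀ j, i ⟶ s j := fun j => ψ ≫ a j
  let Wf : PreZeroHypercover.{w} (D.obj i) :=
    ⟨V.I₀, fun j => pullback (D.map (b j)) (f₀ j), fun j => pullback.fst _ _⟩
  let Wu : PreZeroHypercover.{u} (D.obj i) :=
    ⟨K, fun m => pullback (D.map (b (idx m))) (f₀ (idx m)), fun m => pullback.fst _ _⟩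
  haveI : Finite Wu.I₀ := inferInstanceAs (Finite K)
  haveI : ∀ m, IsAffine (Wu.X m) := fun m => inferInstanceAs (IsAffine (pullback _ _))
  haveI : ∀ m, QuasiCompact (Wu.f m) := fun m => inferInstance
  have hlift : HTop.HasValLift Wu := by
    intro R _ _ r
    rw [Groth.Agent.S14769.result] at hfi
    obtain ⟨R', _, _, _, l, r', hr', hl⟩ := hfi R (r ≫ inv gi)
    haveI := hr'
    let l' := l ≫ pX
    obtain ⟨m, z, hz⟩ := GrothLib.Constr.exists_sigma_eq Y (l' (closed (CommRingCat.of R')))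
    obtain ⟨m', hm'⟩ := exists_lift_of_closed_mem l' (Sigma.ι Y m) ⟨z, hz⟩
    have h1 : m' ≫ y m = (r' ≫ r) ≫ D.map ψ := by
      have : m' ≫ y m = l ≫ fi ≫ pY := by
        rw [← hX.w, show y m = Sigma.ι Y m ≫ F from (Sigma.ι_desc y m).symm, reassoc_of% hm', Category.assoc]
      rw [this, reassoc_of% hl, show pY = gi ≫ D.map ψ by simpa using hY.w, IsIso.inv_hom_id_assoc,
        Category.assoc]
    refine ⟨CommRingCat.of R', inferInstance, inferInstance, Spec.preimage r', isExtVal_lift R' r', m,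
      pullback.lift (r' ≫ r) (m' ≫ pullback.fst (f₀ (idx m)) (D.map (a (idx m)))) ?_, ?_⟩
    · rw [Category.assoc m', pullback.condition, ← Category.assoc m']
      show (r' ≫ r) ≫ D.map (ψ ≫ a (idx m)) = (m' ≫ y m) ≫ D.map (a (idx m))
      rw [h1, D.map_comp, Category.assoc _ (D.map ψ)]
    · exact (pullback.lift_fst _ _ _).trans (by rw [Spec.map_preimage])
  have hWu := GrothLib.SubtrLim.isVCover_of_hasValLift Wu hlift
  refine ⟨i, Wf, ⟨inferInstance, inferInstanceAs (Finite V.I₀),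
    fun j => inferInstanceAs (IsAffine (pullback _ _)),
    fun j => inferInstanceAs (LocallyOfFinitePresentation (pullback.fst _ _)), fun U => ?_⟩,
    Equiv.refl _, ?_⟩
  · obtain ⟨G, hG, hr⟩ := hWu U
    refine ⟨G, hG, fun t => ?_⟩
    obtain ⟨m, h, hh⟩ := hr t
    exact ⟨idx m, h, hh⟩
  · have hQ : ∀ j, ∃ e : V.X j ≅ pullback (c.π.app i) (Wf.f j),
        e.hom ≫ pullback.fst (c.π.app i) (Wf.f j) = V.f j := fun j => by
      have h1 : IsPullback (pullback.fst (c.π.app i) (Wf.f j))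
          (pullback.snd (c.π.app i) (Wf.f j) ≫ pullback.snd (D.map (b j)) (f₀ j)) (c.π.app (s j)) (f₀ j) := by
        rw [← c.w (b j)]
        exact (IsPullback.of_hasPullback _ _).paste_vert (IsPullback.of_hasPullback (D.map (b j)) (f₀ j))
      exact ⟨(hp j).flip.isoIsPullback _ _ h1, IsPullback.isoIsPullback_hom_fst _ _ _ _⟩
    choose e he using hQ
    exact ⟨e, he⟩

end GrothLib.HDesc4
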